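import Groth.Agent.BunMod.K596.RowGG
import Groth.Agent.BunMod.K596.JB
import Groth.Prelude.Def_BunMod
import Groth.Prelude.Def_ModFun
import Groth.Agent.VarietyB.GGStalk

/-!
# Row S16935 from the structure theorem (SO2)

`main` : the statement of S16935, with the structure theorem for `dm : M ⟶ J` (in the form of
`PlanJ.exists_str_of_det`) as the hypothesis `hstr`.
-/

set_option autoImplicit false
universe u
open CategoryTheory CategoryTheory.Limits AlgebraicGeometry MonoidalCategory CartesianMonoidalCategory MonObj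
open Groth.Agent Groth.Agent.BunMod.K596

namespace K307.Row35

/-- Global generation of powers is transported along an isomorphism of schemes. -/
theorem gg_pow_pullback {X Y : Scheme.{u}} (f : X ⟶ Y) [IsIso f] {A : X.Modules} {B : Y.Modules}
    (e : A ≅ (Scheme.Modules.pullback f).obj B) (m : ℕ) (h : Curv2.IsGloballyGenerated (CohB1.tensorPow B m)) :
    Curv2.IsGloballyGenerated (CohB1.tensorPow A m) :=
  StrGG.gg_of_iso (Comp.pullTPow f B m ≪≫ (Ega2.TensPow.powIso e m).symm)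
    (VarietyB.GGStalk.isGloballyGenerated_pullback f _ h)

theorem main (k : Type u) [Field k] [IsAlgClosed k] [CharZero k]
    (X : Scheme.{u}) [X.Over (Spec (CommRingCat.of k))]
    [IsProper (X ↘ Spec (CommRingCat.of k))] [Smooth (X ↘ Spec (CommRingCat.of k))]
    [GeometricallyConnected (X ↘ Spec (CommRingCat.of k))] (hdim : topologicalKrullDim ↥X = 1)
    (g : ℕ) (hg : Curv2.genus k X = g) (hg2 : 2 ≤ g)
    (r : ℕ) (hr : 2 ≤ r) (N : X.Modules) (hN : PicF.IsInvertible N) (hNdeg : Curv2.deg k X N 1 = (g : ℤ) - 1)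
    (M : Over (Spec (CommRingCat.of k))) (Θ : M.left.Modules) (hΘ : PicF.IsInvertible Θ)
    (M' : Over (Spec (CommRingCat.of k))) (Θ' : M'.left.Modules)
    (J : Over (Spec (CommRingCat.of k))) (ψ : (ModFun.PicDeg (X ↘ Spec (CommRingCat.of k)) 0).Hom ⊤ J)
    (hJ : ModFun.IsCoarseModuli ⊤ (ModFun.PicDeg (X ↘ Spec (CommRingCat.of k)) 0) J ψ)
    (ΘJ : J.left.Modules) (hΘJ : Jac.IsThetaLB (X ↘ Spec (CommRingCat.of k)) 0 ψ N ΘJ)
    (dm : M ⟶ J)
    (L : J.left.Modules) (hL : PicF.IsInvertible L)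
    (hB1 : ∀ (E : J.left.Modules), FlatMod.IsFinLocFree E →
      (∀ (α : J.left.Modules), PicF.IsInvertible α → @Pic13.IsAlgEquivZero k _ J.left ⟨J.hom⟩ α →
        ∀ i : ℕ, 0 < i → Subsingleton (Coh.HH J.left (CohB1.tensorMod E α) i)) →
      ∀ (L : J.left.Modules), CohB1.IsAmple L → Curv2.IsGloballyGenerated (CohB1.tensorMod E L))
    (m : ℕ) (hmr : r ≤ m) (hgg : Curv2.IsGloballyGenerated (CohB1.tensorPow Θ' m))
    (hvan : ∀ (α : J.left.Modules), PicF.IsInvertible α → @Pic13.IsAlgEquivZero k _ J.left ⟨J.hom⟩ α →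
      ∀ i : ℕ, 0 < i → Subsingleton (Coh.HH J.left
        (CohB1.tensorMod (CohB1.tensorMod (CohB1.tensorPow ΘJ (m * r - r ^ 2)) (CohB1.tensorPow L (r ^ 2))) α) i))
    (hstr : ∀ [GrpObj J] [IsCommMonObj J], Jac.IsJacobian (X ↘ Spec (CommRingCat.of k)) ⊤ J ψ →
      ∃ (S : Str r dm Θ ΘJ) (e : S.M₀ ≅ M'), Nonempty (S.A ≅ (Scheme.Modules.pullback e.hom.left).obj Θ')) :
    Curv2.IsGloballyGenerated (CohB1.tensorMod (CohB1.tensorPow Θ m) ((Scheme.Modules.pullback dm.left).obj L)) := by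
  obtain ⟨i1, i2, hJac⟩ := JB.exists_isJacobian k X hdim J ψ hJ
  have hP := JB.ppav k X hdim g hg (by omega) N hN hNdeg J ψ hJac ΘJ hΘJ
  obtain ⟨S, e, ⟨a⟩⟩ := hstr hJac
  have : IsIso e.hom.left := inferInstanceAs (IsIso ((Over.forget _).map e.hom))
  exact RowGG.gg_twist hP hB1 hΘ (by omega) S m hmr (gg_pow_pullback e.hom.left a m hgg) L hL hvan

end K307.Row35
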